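import Groth.Agent.Etbc.H227.BrDvr
import Groth.Agent.EtpbcB.PBCVan
import Groth.Agent.Sga4h.X144Geo1
import Groth.Agent.Sga4h.TameField
import Groth.Agent.Sga4h.DivEq
import Groth.Agent.CurvesB.DimPts
import Groth.Agent.Etrest.IsoInv
import Groth.Agent.Etcore.Torsion
import Groth.Agent.S0073
import Groth.Agent.S0539

/-!
# `R^q j_* F = 0` for `q ≥ 2`, `j : Spec K → Spec R` the generic point of a discrete valuation ring

Either `ℓ` is nonzero in the residue field, or `K` has characteristic zero and the residue field is
perfect; `F` is killed by `ℓ`.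
-/

set_option autoImplicit false
universe u
open CategoryTheory CategoryTheory.Limits CategoryTheory.Abelian AlgebraicGeometry Opposite

namespace Groth.Agent.Etbc.H227.RpushZero

open IsLocalRing Groth.Agent.Sga4h Groth.Agent.EtpbcB

variable (R K : Type u) [CommRing R] [IsDomain R] [IsDiscreteValuationRing R]
  [Field K] [Algebra R K] [IsFractionRing R K]

theorem regular (s : Spec (CommRingCat.of R)) :
    IsRegularLocalRing ((Spec (CommRingCat.of R)).presheaf.stalk s) := by
  rw [DivEq.isRegularLocalRing_stalk_iff]
  infer_instance

theorem dim_le (s : Spec (CommRingCat.of R)) :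
    ringKrullDim ((Spec (CommRingCat.of R)).presheaf.stalk s) ≤ 1 := by
  refine (Groth.Agent.CurvesB.DimPts.ringKrullDim_stalk_le s).trans ?_
  rw [show topologicalKrullDim (Spec (CommRingCat.of R)) = ringKrullDim R from
    PrimeSpectrum.topologicalKrullDim_eq_ringKrullDim R]
  exact Ring.krullDimLE_iff.1 inferInstance

include K in
/-- Injectivity of the map from a discrete valuation ring to its local rings and their strict
henselizations, in the form needed: characteristic zero passes. -/
theorem charZero_frac [CharZero K] (s : Spec (CommRingCat.of R)) (R' : Type u) [CommRing R']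
    [IsLocalRing R'] [Algebra ((Spec (CommRingCat.of R)).presheaf.stalk s) R']
    [IsLocalHom (algebraMap ((Spec (CommRingCat.of R)).presheaf.stalk s) R')]
    [Hensel.IsStrictHenselization ((Spec (CommRingCat.of R)).presheaf.stalk s) R'] :
    CharZero R' := by
  have h0 : CharZero R := by
    refine ⟨fun a b hab => ?_⟩
    have := congrArg (algebraMap R K) hab
    rw [map_natCast, map_natCast] at this
    exact Nat.cast_injective this
  have h1 : CharZero (Localization.AtPrime s.asIdeal) := 
    charZero_of_injective_algebraMap (IsLocalization.injective (Localization.AtPrime s.asIdeal)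
      (Ideal.primeCompl_le_nonZeroDivisors s.asIdeal))
  let e : (Spec (CommRingCat.of R)).presheaf.stalk s ≃+* Localization.AtPrime s.asIdeal :=
    (Spec.stalkIso (CommRingCat.of R) s).commRingCatIsoToRingEquiv
  have h2 : CharZero ((Spec (CommRingCat.of R)).presheaf.stalk s) :=
    charZero_of_injective_ringHom (f := e.symm.toRingHom) e.symm.injective
  have hff : Module.FaithfullyFlat ((Spec (CommRingCat.of R)).presheaf.stalk s) R' :=
    Groth.Agent.S0539.result _ _
  exact charZero_of_injective_algebraMap (R := (Spec (CommRingCat.of R)).presheaf.stalk s)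
    (FaithfulSMul.algebraMap_injective _ _)

theorem isTorsion_of_killedBy {X : Scheme.{u}} {n : ℕ} (hn : 0 < n) {F : EtCoh.Ab X}
    (h : EtCoh.KilledBy n F) : EtCoh.IsTorsion F := by
  intro U s x
  refine ⟨U, 𝟙 U, ⟨x, rfl⟩, ?_⟩
  rw [isOfFinAddOrder_iff_nsmul_eq_zero]
  exact ⟨n, hn, h U _⟩

/-- An open immersion into the spectrum of a local ring whose range contains the closed point is an
isomorphism. -/
theorem isIso_of_closedPoint {P : Scheme.{u}} (A : Type u) [CommRing A] [IsLocalRing A]
    (f : P ⟶ Spec (CommRingCat.of A)) [IsOpenImmersion f]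
    (h : IsLocalRing.closedPoint A ∈ Set.range f) : IsIso f := by
  apply isIso_of_isOpenImmersion_of_opensRange_eq_top
  rw [eq_top_iff]
  intro x _
  have hx : x ⤳ IsLocalRing.closedPoint A := IsLocalRing.specializes_closedPoint x
  exact hx.mem_open f.isOpenEmbedding.isOpen_range h

/-- The residue field of a strict henselization at the closed point is algebraically closed if the residue
field is perfect. -/
theorem isAlgClosed_residue [PerfectField (ResidueField R)] (R' : Type u) [CommRing R']
    [IsLocalRing R']
    [Algebra ((Spec (CommRingCat.of R)).presheaf.stalk (closedPoint R)) R']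
    [IsLocalHom (algebraMap ((Spec (CommRingCat.of R)).presheaf.stalk (closedPoint R)) R')]
    [h : Hensel.IsStrictHenselization ((Spec (CommRingCat.of R)).presheaf.stalk (closedPoint R)) R'] :
    IsAlgClosed (ResidueField R') := by
  let e : R ≃+* (Spec (CommRingCat.of R)).presheaf.stalk (closedPoint R) :=
    (stalkClosedPointIso (CommRingCat.of R)).symm.commRingCatIsoToRingEquiv
  let e' := ResidueField.mapEquiv e
  let _ : Algebra (ResidueField R)
    (ResidueField ((Spec (CommRingCat.of R)).presheaf.stalk (closedPoint R))) :=
      e'.toRingHom.toAlgebra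
  have h1 : Algebra.IsAlgebraic (ResidueField R)
    (ResidueField ((Spec (CommRingCat.of R)).presheaf.stalk (closedPoint R))) := by
      refine ⟨fun x => ?_⟩
      obtain ⟨y, rfl⟩ := e'.surjective x
      exact isAlgebraic_algebraMap (A := ResidueField ((Spec (CommRingCat.of R)).presheaf.stalk
        (closedPoint R))) y
  have h2 : PerfectField (ResidueField ((Spec (CommRingCat.of R)).presheaf.stalk (closedPoint R))) :=
    Algebra.IsAlgebraic.perfectField (ResidueField R)
  have h3 := h.isSepClosure
  have h4 := h3.sep_closed
  have h5 := h3.separable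
  have h6 : PerfectField (ResidueField R') := Algebra.IsAlgebraic.perfectField
    (ResidueField ((Spec (CommRingCat.of R)).presheaf.stalk (closedPoint R)))
  infer_instance

theorem isZero_Rpush (l : ℕ) (h : (l : ResidueField R) ≠ 0 ∨
      (l.Prime ∧ CharZero K ∧ PerfectField (ResidueField R)))
    (F : EtCoh.Ab (Spec (CommRingCat.of K))) (hF : EtCoh.KilledBy l F) (q : ℕ) (hq : 2 ≤ q) :
    IsZero ((EtCoh.Rpush (Spec.map (CommRingCat.ofHom (algebraMap R K))) q).obj F) := by
  have hoi := Groth.Agent.Models.DVRGeneric.isOpenImmersion_generic R K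
  refine PBCVan.isZero_Rpush_of_van _ F q (fun s R' _ _ _ _ _ _ _ => ?_)
  have hgen : (⊥ : PrimeSpectrum R) ∈ Set.range (Spec.map (CommRingCat.ofHom (algebraMap R K))) :=
    ⟨(⊥ : PrimeSpectrum K), X144Geo1.comap_bot _ (IsFractionRing.injective R K)⟩
  have hdense : Dense (Set.range (Spec.map (CommRingCat.ofHom (algebraMap R K))).base) := by
    intro x
    have hx : (⊥ : PrimeSpectrum R) ⤳ x := (PrimeSpectrum.le_iff_specializes _ _).1 bot_le
    exact closure_mono (Set.singleton_subset_iff.2 hgen) (specializes_iff_mem_closure.1 hx)
  by_cases hs : s ∈ Set.range (Spec.map (CommRingCat.ofHom (algebraMap R K)))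
  · have hiso : IsIso (pullback.snd (Spec.map (CommRingCat.ofHom (algebraMap R K)))
        (Hens2.specOf (Spec (CommRingCat.of R)) s R')) := by
      apply isIso_of_closedPoint
      rw [IsOpenImmersion.range_pullbackSnd]
      change Hens2.specOf (Spec (CommRingCat.of R)) s R' (closedPoint R') ∈
        Set.range (Spec.map (CommRingCat.ofHom (algebraMap R K)))
      rw [PBCVan.specOf_closedPoint]
      exact hs
    have h1 := Groth.Agent.S0073.result R' ((EtCoh.pull (inv (pullback.snd
      (Spec.map (CommRingCat.ofHom (algebraMap R K)))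
        (Hens2.specOf (Spec (CommRingCat.of R)) s R')))).obj ((EtCoh.pull (pullback.fst
      (Spec.map (CommRingCat.ofHom (algebraMap R K)))
        (Hens2.specOf (Spec (CommRingCat.of R)) s R'))).obj F)) q (by omega)
    exact (Etrest.IsoInv.HIso (inv (pullback.snd
      (Spec.map (CommRingCat.ofHom (algebraMap R K)))
        (Hens2.specOf (Spec (CommRingCat.of R)) s R'))) _ q).toEquiv.subsingleton
  · obtain ⟨hdom, hdvr, hsh, hK⟩ := X144Geo1.geo1 (regular R) (dim_le R)
      (Spec.map (CommRingCat.ofHom (algebraMap R K))) hdense s hs R'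
    obtain ⟨e⟩ := hK (FractionRing R')
    have hN : EtCoh.KilledBy l ((EtCoh.pull e.inv).obj ((EtCoh.pull (pullback.fst
      (Spec.map (CommRingCat.ofHom (algebraMap R K)))
        (Hens2.specOf (Spec (CommRingCat.of R)) s R'))).obj F)) :=
      Etcore.Torsion.killedBy_pull _ _ _ (Etcore.Torsion.killedBy_pull _ _ _ hF)
    refine (Etrest.IsoInv.HIso e.inv _ q).toEquiv.subsingleton_congr.2 ?_
    rcases h with h | ⟨hl, hK0, hp⟩
    · have hu : IsUnit (l : R) := by
        by_contra hcon
        apply h
        have := (IsLocalRing.residue_eq_zero_iff (l : R)).2 hcon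
        rwa [map_natCast] at this
      have hu' : IsUnit (l : R') := by
        let e : (Spec (CommRingCat.of R)).presheaf.stalk s ≃+* Localization.AtPrime s.asIdeal :=
          (Spec.stalkIso (CommRingCat.of R) s).commRingCatIsoToRingEquiv
        have h1 := hu.map (((algebraMap ((Spec (CommRingCat.of R)).presheaf.stalk s) R').comp
          e.symm.toRingHom).comp (algebraMap R (Localization.AtPrime s.asIdeal)))
        rwa [map_natCast] at h1
      exact TameField.K1 R' (FractionRing R') hsh l hu' _ hN q hq
    · have hs' : s = closedPoint R := by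
        rcases X144Geo1.eq_or_eq_closedPoint R s with h1 | h1
        · exact absurd (h1 ▸ hgen) hs
        · exact h1
      subst hs'
      have h0 := charZero_frac R K (closedPoint R) R'
      have h1 : CharZero (FractionRing R') :=
        charZero_of_injective_algebraMap (IsFractionRing.injective R' (FractionRing R'))
      have h2 := isAlgClosed_residue R R'
      exact BrDvr.cohDimLE_one R' (FractionRing R') _ (isTorsion_of_killedBy hl.pos hN) q hq

end Groth.Agent.Etbc.H227.RpushZero
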