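import Groth.Agent.Etbc.H227.CdIso
import Groth.Agent.Ega43.MaxPoints
import Groth.Agent.CurvesB.DimPts
import Groth.Agent.Flat2E.Thick
import Groth.Prelude.Def_Cyc
import Groth.Prelude.Def_Hensel

/-! Glue for S3509: reduction to S3487 (local lower bound for `cd_ℓ`) and S3492 (codimension bounds). -/

set_option autoImplicit false
universe u
open CategoryTheory CategoryTheory.Limits CategoryTheory.Abelian AlgebraicGeometry Opposite

namespace Groth.Agent.Etbc.H227.Glue

open Groth.Agent.Ega43.MaxPoints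

/-- The fraction field of `A / p` is the residue field at `p`. -/
noncomputable def fracEquiv (A : Type u) [CommRing A] (p : Ideal A) [p.IsPrime] :
    FractionRing (A ⧸ p) ≃+* p.ResidueField :=
  (FractionRing.algEquiv (A ⧸ p) p.ResidueField).toRingEquiv

/-- For a point `p` of the spectrum of the local ring at `y`, the residue field of `X` at the image of `p`
is the fraction field of `O_{X,y} / p`. -/
theorem exists_ringEquiv (X : Scheme.{u}) (y : X) (p : Spec (X.presheaf.stalk y)) :
    Nonempty (X.residueField ((X.fromSpecStalk y) p) ≃+*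
      FractionRing ((X.presheaf.stalk y) ⧸ p.asIdeal)) := by
  have := Groth.Agent.Flat2E.Thick.isIso_residueFieldMap_of_surjectiveOnStalks (X.fromSpecStalk y) p
  let e1 := (asIso ((X.fromSpecStalk y).residueFieldMap p)).commRingCatIsoToRingEquiv
  let e2 := (Scheme.Spec.residueFieldIso (X.presheaf.stalk y) p).commRingCatIsoToRingEquiv
  exact ⟨(e1.trans e2).trans (fracEquiv (X.presheaf.stalk y) p.asIdeal).symm⟩

/-- Orderability is transported along ring isomorphisms. -/
theorem orderable_of_ringEquiv {A B : Type u} [Field A] [Field B] (e : A ≃+* B)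
    (h : ∃ _ : LinearOrder A, IsStrictOrderedRing A) : ∃ _ : LinearOrder B, IsStrictOrderedRing B := by
  obtain ⟨l, hl⟩ := h
  letI : LinearOrder B := LinearOrder.lift' e.symm e.symm.injective
  refine ⟨inferInstance, ?_⟩
  exact Function.Injective.isStrictOrderedRing e.symm (map_zero _) (map_one _) (map_add _)
    (map_mul _) (fun {_ _} => Iff.rfl) (fun {_ _} => Iff.rfl)

/-- The statement of S3487 for the local ring of a scheme at a point. -/
def LocalLower (X : Scheme.{u}) (ℓ : ℕ) (y : X) : Prop :=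
  (ℓ ≠ 2 ∨ ∀ p : PrimeSpectrum (X.presheaf.stalk y),
      ¬ ∃ _ : LinearOrder (FractionRing ((X.presheaf.stalk y) ⧸ p.asIdeal)),
        IsStrictOrderedRing (FractionRing ((X.presheaf.stalk y) ⧸ p.asIdeal))) →
    ∀ (m : ℕ) (_ : ringKrullDim (X.presheaf.stalk y) = m) (d : ℕ)
    (_ : ∀ P ∈ minimalPrimes (X.presheaf.stalk y),
      Dix.CohDimLEAt (Spec (CommRingCat.of (FractionRing ((X.presheaf.stalk y) ⧸ P)))) ℓ d),
    m ≤ d ∧ Dix.CohDimLEAt
      (Spec (CommRingCat.of (IsLocalRing.ResidueField (X.presheaf.stalk y)))) ℓ (d - m)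

/-- From the local lower bound to the codimension bounds. -/
theorem codim_bounds (X : Scheme.{u}) (m : ℕ) (hm : topologicalKrullDim X ≤ m)
    (ℓ : ℕ) (hL : ∀ y : X, LocalLower X ℓ y)
    (hord : ℓ ≠ 2 ∨ ∀ x : X, ¬ ∃ _ : LinearOrder (X.residueField x), IsStrictOrderedRing (X.residueField x))
    (c : ℕ) (hc : ∀ x : X, closure {x} ∈ irreducibleComponents (X : Type u) →
      Dix.CohDimLEAt (Spec (X.residueField x)) ℓ c) :
    ∀ (y : X) (e : ℕ), ringKrullDim (X.presheaf.stalk y) = e →
      2 * e ≤ c + m ∧ Dix.CohDimLEAt (Spec (X.residueField y)) ℓ (c + m - 2 * e) := by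
  intro y e he
  have hem : e ≤ m := by
    have h := (Groth.Agent.CurvesB.DimPts.ringKrullDim_stalk_le y).trans hm
    rw [he] at h
    exact_mod_cast h
  have hor : ℓ ≠ 2 ∨ ∀ p : PrimeSpectrum (X.presheaf.stalk y),
      ¬ ∃ _ : LinearOrder (FractionRing ((X.presheaf.stalk y) ⧸ p.asIdeal)),
        IsStrictOrderedRing (FractionRing ((X.presheaf.stalk y) ⧸ p.asIdeal)) := by
    refine hord.imp id fun h p hp => ?_
    obtain ⟨E⟩ := exists_ringEquiv X y p
    exact h _ (orderable_of_ringEquiv E.symm hp)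
  obtain ⟨h1, h2⟩ := hL y hor e he c fun P hP => by
    have : P.IsPrime := hP.1.1
    obtain ⟨E⟩ := exists_ringEquiv X y ⟨P, this⟩
    exact CdIso.cohDimLEAt_of_ringEquiv E ℓ c
      (hc _ (isMaxPt_fromSpecStalk ⟨P, this⟩ hP).closure_mem_irreducibleComponents)
  exact ⟨by omega, CdIso.cohDimLEAt_mono (by omega) h2⟩

end Groth.Agent.Etbc.H227.Glue
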