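import Groth.Prelude.Def_Dix
import Groth.Agent.EtpbcA.CdExact
import Groth.Agent.Etcore.Torsion

/-! `ℓ`-primary torsion sheaves under inverse image and invariance of `cd_ℓ` under isomorphisms. -/

set_option autoImplicit false
universe u
open CategoryTheory CategoryTheory.Limits CategoryTheory.Abelian AlgebraicGeometry Opposite

namespace Groth.Agent.Etbc.H227.CdIso

open Groth.Agent.EtpbcA

variable {X Y : Scheme.{u}}

theorem isPrimaryTorsion_iff_stalk (ℓ : ℕ) (F : EtCoh.Ab X) :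
    Dix.IsPrimaryTorsion ℓ F ↔
      ∀ (Ω : Type u) [Field Ω] [IsSepClosed Ω] (ξ : Spec (CommRingCat.of Ω) ⟶ X)
        (t : (EtCoh.stalk ξ).obj F), ∃ n : ℕ, (∃ k : ℕ, n = ℓ ^ k) ∧ n • t = 0 := by
  rw [← Groth.Agent.Etcore.Torsion.local_iff_stalk]
  constructor
  · intro h U s x
    obtain ⟨V, g, hv, k, hk⟩ := h U s x
    exact ⟨V, g, _, hv, ⟨k, rfl⟩, hk⟩
  · intro h U s x
    obtain ⟨V, g, n, hv, ⟨k, rfl⟩, h0⟩ := h U s x
    exact ⟨V, g, hv, k, h0⟩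

theorem isPrimaryTorsion_pull (ℓ : ℕ) (f : X ⟶ Y) (F : EtCoh.Ab Y)
    (hF : Dix.IsPrimaryTorsion ℓ F) : Dix.IsPrimaryTorsion ℓ ((EtCoh.pull f).obj F) := by
  rw [isPrimaryTorsion_iff_stalk] at hF ⊢
  exact Groth.Agent.Etcore.Torsion.stalk_prop_pull _ f F hF

theorem cohDimLEAt_mono {ℓ a b : ℕ} (hab : a ≤ b) (h : Dix.CohDimLEAt X ℓ a) :
    Dix.CohDimLEAt X ℓ b := fun F hF q hq => h F hF q (hab.trans_lt hq)

theorem cohDimLEAt_of_isEquivalence (f : X ⟶ Y) [(EtCoh.push f).IsEquivalence] (ℓ d : ℕ)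
    (h : Dix.CohDimLEAt X ℓ d) : Dix.CohDimLEAt Y ℓ d := fun F hF q hq =>
  (CdExact.H_pull_iff_of_isEquivalence f F q).1 (h _ (isPrimaryTorsion_pull ℓ f F hF) q hq)

theorem cohDimLEAt_of_iso (e : X ≅ Y) (ℓ d : ℕ) (h : Dix.CohDimLEAt X ℓ d) :
    Dix.CohDimLEAt Y ℓ d :=
  have := CdExact.push_isEquivalence_of_isIso e.hom
  cohDimLEAt_of_isEquivalence e.hom ℓ d h

theorem cohDimLEAt_of_ringEquiv {A B : Type u} [CommRing A] [CommRing B] (e : A ≃+* B) (ℓ d : ℕ)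
    (h : Dix.CohDimLEAt (Spec (CommRingCat.of A)) ℓ d) :
    Dix.CohDimLEAt (Spec (CommRingCat.of B)) ℓ d :=
  cohDimLEAt_of_iso (Scheme.Spec.mapIso e.toCommRingCatIso.op).symm ℓ d h

end Groth.Agent.Etbc.H227.CdIso
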