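import Groth.Agent.Etbc.H227.DivFin
import Groth.Agent.CurvesA.FieldHZl47
import Groth.Agent.S0208

/-!
# Brauer groups over henselian discrete valuation rings with algebraically closed residue field

`brTriv`: if `R` is a henselian discrete valuation ring with algebraically closed residue field and
fraction field `K` of characteristic zero, all finite extensions of `K` have trivial Brauer group.
`cohDimLE_one`: the étale cohomology of torsion sheaves on `Spec K` vanishes above degree one.
-/

set_option autoImplicit false
universe u
open CategoryTheory CategoryTheory.Limits CategoryTheory.Abelian AlgebraicGeometry Opposite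

namespace Groth.Agent.Etbc.H227.BrDvr

open IsLocalRing
open Groth.Agent.Sga4h

variable (R K : Type u) [CommRing R] [IsDomain R] [IsDiscreteValuationRing R]
  [Field K] [CharZero K] [Algebra R K] [IsFractionRing R K]

include K in
theorem isAlgClosed_residueField (hR : EtCoh.IsStrictlyHenselianLocalRing R)
    [IsAlgClosed (ResidueField R)] (L : Type u) [Field L]
    [Algebra K L] [Algebra R L] [IsScalarTower R K L] [FiniteDimensional K L]
    [IsLocalRing (integralClosure R L)] :
    IsAlgClosed (ResidueField (integralClosure R L)) := by
  have := TameExt.module_finite R K L
  have hfs := TameExt.faithfulSMul R K L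
  have hfin : FiniteDimensional (ResidueField R) (ResidueField (integralClosure R L)) :=
    ResidueField.finite_of_module_finite
  have hb := IsAlgClosed.algebraMap_bijective_of_isIntegral (k := ResidueField R)
    (K := ResidueField (integralClosure R L))
  exact IsAlgClosed.of_ringEquiv _ _ (RingEquiv.ofBijective _ hb)

/-- Fraction fields of characteristic zero of henselian discrete valuation rings with algebraically closed
residue field have trivial Brauer groups, and so do their finite extensions. -/
theorem brTriv [HenselianLocalRing R] [IsAlgClosed (ResidueField R)] :
    CurvesA.FieldHZl47.BrTriv K := by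
  intro K' _ _ _ D _ _ _ _
  have hR : EtCoh.IsStrictlyHenselianLocalRing R := ⟨inferInstance, inferInstance⟩
  let _ : Algebra R K' := ((algebraMap K K').comp (algebraMap R K)).toAlgebra
  have : IsScalarTower R K K' := IsScalarTower.of_algebraMap_eq fun _ => rfl
  have : CharZero K' := charZero_of_injective_algebraMap (algebraMap K K').injective
  have h1 := TameExt.isStrictlyHenselianLocalRing R K' hR
  have h2 := TameExt.isDiscreteValuationRing R K K' hR
  have h3 := TameExt.isFractionRing R K K'
  have h4 := isAlgClosed_residueField R K hR K'
  have : IsScalarTower (integralClosure R K') K' D := IsScalarTower.of_algebraMap_eq fun _ => rfl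
  exact DivFin.finrank_eq_one (R := integralClosure R K') (K := K') (D := D) h1

/-- `cd ≤ 1` for the fraction field. -/
theorem cohDimLE_one [HenselianLocalRing R] [IsAlgClosed (ResidueField R)] :
    EtCoh.CohDimLE (Spec (CommRingCat.of K)) 1 := by
  intro F hF q hq
  exact Groth.Agent.S0208.result K (fun K' _ _ _ D _ _ _ _ => brTriv R K K' D) F hF q hq

end Groth.Agent.Etbc.H227.BrDvr
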