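import Groth.Agent.Etbc.H227.DvrComm
import Mathlib.RingTheory.Norm.Transitivity
import Mathlib.RingTheory.AdjoinRoot
import Mathlib.LinearAlgebra.Trace
import Mathlib.Algebra.Central.Defs
import Mathlib.RingTheory.Trace.Basic

/-! Norm and trace of elements of division algebras through commutative subfields. -/

set_option autoImplicit false
universe u

namespace Groth.Agent.Etbc.H227.DivAlg

open IsLocalRing

section

variable {K D : Type u} [Field K] [DivisionRing D] [Algebra K D] [FiniteDimensional K D]

/-- Every element of a finite-dimensional division algebra is the image of an element of a finite field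
extension. -/
theorem exists_field [CharZero K] (x : D) :
    ∃ (L : Type u) (_ : Field L) (_ : Algebra K L) (_ : FiniteDimensional K L)
      (_ : Algebra.IsSeparable K L) (φ : L →+* D)
      (_ : ∀ c : K, φ (algebraMap K L c) = algebraMap K D c) (a : L), φ a = x := by
  have hx : IsIntegral K x := Algebra.IsIntegral.isIntegral x
  have hirr : Irreducible (minpoly K x) := minpoly.irreducible hx
  have : Fact (Irreducible (minpoly K x)) := ⟨hirr⟩
  have hfd : FiniteDimensional K (AdjoinRoot (minpoly K x)) :=
    (AdjoinRoot.powerBasis hirr.ne_zero).finite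
  let φ : AdjoinRoot (minpoly K x) →+* D :=
    Ideal.Quotient.lift (Ideal.span {minpoly K x}) (Polynomial.aeval x : Polynomial K →ₐ[K] D).toRingHom
      (by
        intro a ha
        obtain ⟨b, rfl⟩ := Ideal.mem_span_singleton.1 ha
        simp)
  refine ⟨AdjoinRoot (minpoly K x), inferInstance, inferInstance, hfd, inferInstance, φ, ?_,
    AdjoinRoot.root _, ?_⟩
  · intro c
    have : algebraMap K (AdjoinRoot (minpoly K x)) c =
        Ideal.Quotient.mk (Ideal.span {minpoly K x}) (Polynomial.C c) := rfl
    rw [this]
    change (Polynomial.aeval x : Polynomial K →ₐ[K] D) (Polynomial.C c) = _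
    simp
  · change (Polynomial.aeval x : Polynomial K →ₐ[K] D) Polynomial.X = _
    simp

/-- The trace of multiplication by `a` on an `L`-vector space. -/
theorem trace_lsmul {L V : Type u} [Field L] [Algebra K L] [FiniteDimensional K L]
    [AddCommGroup V] [Module K V] [Module L V] [IsScalarTower K L V] [Module.Finite L V] (a : L)
    (f : V →ₗ[K] V) (hf : ∀ v, f v = a • v) :
    LinearMap.trace K V f = (Module.finrank L V : K) * Algebra.trace K L a := by
  classical
  let c := Module.finBasis K L
  let b := Module.finBasis L V
  rw [LinearMap.trace_eq_matrix_trace K (c.smulTower b), Algebra.trace_eq_matrix_trace c,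
    Matrix.trace, Matrix.trace, Fintype.sum_prod_type_right]
  have h : ∀ (j : Fin (Module.finrank L V)), (∑ i, (LinearMap.toMatrix (c.smulTower b)
      (c.smulTower b) f).diag (i, j)) = ∑ i, (Algebra.leftMulMatrix c a).diag i := by
    intro j
    refine Finset.sum_congr rfl fun i _ => ?_
    rw [Matrix.diag_apply, Matrix.diag_apply, LinearMap.toMatrix_apply, hf,
      Algebra.leftMulMatrix_eq_repr_mul]
    simp [Module.Basis.smulTower_repr, Module.Basis.smulTower_apply, ← mul_smul]
  rw [Finset.sum_congr rfl fun j _ => h j]
  simp

theorem norm_trace_map {L : Type u} [Field L] [Algebra K L] [FiniteDimensional K L]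
    (φ : L →+* D) (hφ : ∀ c : K, φ (algebraMap K L c) = algebraMap K D c) :
    ∃ r : ℕ, 0 < r ∧ (∀ a : L, Algebra.norm K (φ a) = (Algebra.norm K a) ^ r) ∧
      ∀ a : L, LinearMap.trace K D (LinearMap.mulLeft K (φ a)) = (r : K) * Algebra.trace K L a := by
  letI : Module L D := Module.compHom D φ
  have hsmul : ∀ (a : L) (x : D), a • x = φ a * x := fun _ _ => rfl
  haveI : IsScalarTower K L D := ⟨fun c a x => by
    rw [hsmul, hsmul, Algebra.smul_def, map_mul, hφ, mul_assoc, Algebra.smul_def]⟩
  haveI : Module.Finite L D := Module.Finite.of_restrictScalars_finite K L D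
  refine ⟨Module.finrank L D, Module.finrank_pos, fun a => ?_, fun a => ?_⟩
  · have h1 : LinearMap.mulLeft K (φ a) = (a • (LinearMap.id : D →ₗ[L] D)).restrictScalars K := by
      ext x
      rfl
    rw [Algebra.norm_apply]
    have h2 : Algebra.lmul K D (φ a) = LinearMap.mulLeft K (φ a) := by
      ext x
      rfl
    rw [h2, h1, LinearMap.det_restrictScalars, LinearMap.det_smul, LinearMap.det_id, mul_one, map_pow]
  · exact trace_lsmul a _ fun v => rfl

end

end Groth.Agent.Etbc.H227.DivAlg
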