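import Groth.Agent.Etbc.H227.DivAlg
import Mathlib.RingTheory.Nakayama
import Mathlib.RingTheory.Valuation.ValuationRing
import Mathlib.LinearAlgebra.FreeModule.Finite.Basic

/-! Division algebras over the fraction field of a strictly henselian discrete valuation ring with
algebraically closed residue field, in characteristic zero, are trivial. -/

set_option autoImplicit false
set_option linter.style.haveILetI false
universe u

namespace Groth.Agent.Etbc.H227.DivDvr

open IsLocalRing
open Groth.Agent.Sga4h Groth.Agent.Etbc.H227.DvrComm Groth.Agent.Etbc.H227.DivAlg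

variable {R K D : Type u} [CommRing R] [IsDomain R] [IsDiscreteValuationRing R]
  [Field K] [CharZero K] [Algebra R K] [IsFractionRing R K]
  [DivisionRing D] [Algebra K D] [FiniteDimensional K D]
  [Algebra R D] [IsScalarTower R K D]

/-- The norm of `x` lies in the valuation ring. -/
def IntN (R K : Type u) {D : Type u} [CommRing R] [Field K] [Algebra R K] [DivisionRing D]
    [Algebra K D] (x : D) : Prop := ∃ c : R, Algebra.norm K x = algebraMap R K c

theorem IntN.mul {x y : D} (hx : IntN R K x) (hy : IntN R K y) : IntN R K (x * y) := by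
  obtain ⟨c, hc⟩ := hx
  obtain ⟨d, hd⟩ := hy
  exact ⟨c * d, by rw [map_mul, hc, hd, map_mul]⟩

theorem intN_algebraMap (c : R) : IntN R K (algebraMap R D c) := by
  refine ⟨c ^ Module.finrank K D, ?_⟩
  rw [IsScalarTower.algebraMap_apply R K D, Algebra.norm_algebraMap, map_pow]

section hens

variable (hR : EtCoh.IsStrictlyHenselianLocalRing R)

include hR in
/-- The main tool: an element with integral norm comes from an integral element of a finite field
extension. -/
theorem IntN.exists {x : D} (hx : IntN R K x) :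
    ∃ (L : Type u) (_ : Field L) (_ : Algebra K L) (_ : FiniteDimensional K L)
      (_ : Algebra.IsSeparable K L) (_ : Algebra R L) (_ : IsScalarTower R K L) (φ : L →+* D)
      (_ : ∀ c : K, φ (algebraMap K L c) = algebraMap K D c) (a : integralClosure R L),
      φ a = x := by
  obtain ⟨L, _, _, _, _, φ, hφ, a, rfl⟩ := exists_field (K := K) x
  letI : Algebra R L := ((algebraMap K L).comp (algebraMap R K)).toAlgebra
  haveI : IsScalarTower R K L := IsScalarTower.of_algebraMap_eq fun _ => rfl
  obtain ⟨r, hr, hN, hT⟩ := norm_trace_map φ hφ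
  obtain ⟨c, hc⟩ := hx
  rw [hN] at hc
  have h1 : IsIntegral R (Algebra.norm K a) := by
    refine IsIntegral.of_pow hr ?_
    rw [hc]
    exact isIntegral_algebraMap
  obtain ⟨d, hd⟩ := IsIntegrallyClosed.isIntegral_iff.1 h1
  exact ⟨L, inferInstance, inferInstance, inferInstance, inferInstance, inferInstance,
    inferInstance, φ, hφ, ⟨a, isIntegral_of_norm R K L hR a d hd.symm⟩, rfl⟩

theorem intN_map {L : Type u} [Field L] [Algebra K L] [FiniteDimensional K L]
    [Algebra.IsSeparable K L] [Algebra R L] [IsScalarTower R K L] (φ : L →+* D)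
    (hφ : ∀ c : K, φ (algebraMap K L c) = algebraMap K D c) (a : integralClosure R L) :
    IntN R K (φ a) := by
  obtain ⟨r, hr, hN, hT⟩ := norm_trace_map φ hφ
  exact ⟨(Algebra.norm R a) ^ r, by rw [hN, norm_eq R K L a, map_pow]⟩

include hR in
theorem IntN.one_add {x : D} (hx : IntN R K x) : IntN R K (1 + x) := by
  obtain ⟨L, _, _, _, _, _, _, φ, hφ, a, rfl⟩ := IntN.exists hR hx
  have := intN_map (R := R) φ hφ (1 + a)
  simpa using this

include hR in
theorem IntN.trace {x : D} (hx : IntN R K x) :
    ∃ c : R, LinearMap.trace K D (LinearMap.mulLeft K x) = algebraMap R K c := by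
  obtain ⟨L, _, _, _, _, _, _, φ, hφ, a, rfl⟩ := IntN.exists hR hx
  obtain ⟨r, hr, hN, hT⟩ := norm_trace_map φ hφ
  have h1 : IsIntegral R (Algebra.trace K L (a : L)) := Algebra.isIntegral_trace a.2
  obtain ⟨d, hd⟩ := IsIntegrallyClosed.isIntegral_iff.1 h1
  exact ⟨(r : R) * d, by rw [hT, ← hd, map_mul, map_natCast]⟩

include hR in
theorem IntN.add {x y : D} (hx : IntN R K x) (hy : IntN R K y) : IntN R K (x + y) := by
  by_cases hx0 : x = 0
  · simpa [hx0] using hy
  by_cases hy0 : y = 0
  · simpa [hy0] using hx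
  rcases ValuationRing.isInteger_or_isInteger R (Algebra.norm K (x * y⁻¹)) with ⟨c, hc⟩ | ⟨c, hc⟩
  · have h1 : IntN R K (x * y⁻¹) := ⟨c, hc.symm⟩
    have h2 := (h1.one_add hR).mul hy
    have h3 : (1 + x * y⁻¹) * y = x + y := by
      rw [add_mul, one_mul, mul_assoc, inv_mul_cancel₀ hy0, mul_one, add_comm]
    rwa [h3] at h2
  · have h1 : IntN R K (y * x⁻¹) := ⟨c, by
      rw [hc]
      refine eq_inv_of_mul_eq_one_left ?_
      rw [← map_mul, mul_assoc, ← mul_assoc x⁻¹, inv_mul_cancel₀ hx0, one_mul, mul_inv_cancel₀ hy0,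
        map_one]⟩
    have h2 := (h1.one_add hR).mul hx
    have h3 : (1 + y * x⁻¹) * x = x + y := by
      rw [add_mul, one_mul, mul_assoc, inv_mul_cancel₀ hx0, mul_one]
    rwa [h3] at h2

include hR in
theorem IntN.exists_sub [IsAlgClosed (ResidueField R)] {x : D} (hx : IntN R K x) :
    ∃ c m : R, m ∈ maximalIdeal R ∧
      Algebra.norm K (x - algebraMap R D c) = algebraMap R K m := by
  obtain ⟨L, _, _, _, _, _, _, φ, hφ, a, rfl⟩ := IntN.exists hR hx
  obtain ⟨r, hr, hN, hT⟩ := norm_trace_map φ hφ
  obtain ⟨c, hc⟩ := exists_sub_norm_mem R K L hR a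
  refine ⟨c, (Algebra.norm R (a - algebraMap R _ c)) ^ r,
    Ideal.pow_mem_of_mem _ hc r hr, ?_⟩
  have h1 : φ a - algebraMap R D c = φ ((a - algebraMap R (integralClosure R L) c :
      integralClosure R L) : L) := by
    have h2 : ((algebraMap R (integralClosure R L) c : integralClosure R L) : L) =
      algebraMap K L (algebraMap R K c) := by
        rw [← IsScalarTower.algebraMap_apply R K L]
        rfl
    rw [AddSubgroupClass.coe_sub, map_sub, h2, hφ, ← IsScalarTower.algebraMap_apply R K D]
  rw [h1, hN, norm_eq R K L, map_pow]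

/-- The valuation ring of `D`. -/
def OD (R K D : Type u) [CommRing R] [IsDomain R] [IsDiscreteValuationRing R]
    [Field K] [CharZero K] [Algebra R K] [IsFractionRing R K]
    [DivisionRing D] [Algebra K D] [FiniteDimensional K D]
    [Algebra R D] [IsScalarTower R K D] (hR : EtCoh.IsStrictlyHenselianLocalRing R) :
    Subalgebra R D where
  carrier := {x | IntN R K x}
  mul_mem' hx hy := IntN.mul hx hy
  add_mem' hx hy := IntN.add hR hx hy
  algebraMap_mem' c := intN_algebraMap c

theorem mem_OD {x : D} : x ∈ OD R K D hR ↔ IntN R K x := Iff.rfl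

/-- Every element of `D` becomes integral after multiplication by a nonzero element of `R`. -/
theorem exists_smul_mem (x : D) : ∃ s : R, s ≠ 0 ∧ IntN R K (algebraMap R D s * x) := by
  obtain ⟨u, v, hv, huv⟩ := IsFractionRing.div_surjective (A := R) (Algebra.norm K x)
  have hv0 : v ≠ 0 := nonZeroDivisors.ne_zero hv
  refine ⟨v, hv0, v ^ (Module.finrank K D - 1) * u, ?_⟩
  have hvK : algebraMap R K v ≠ 0 := by
    rwa [Ne, FaithfulSMul.algebraMap_eq_zero_iff]
  rw [map_mul, IsScalarTower.algebraMap_apply R K D, Algebra.norm_algebraMap, ← huv, map_mul,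
    map_pow]
  obtain ⟨n, hn⟩ : ∃ n, Module.finrank K D = n + 1 :=
    ⟨Module.finrank K D - 1, (Nat.succ_pred_eq_of_pos Module.finrank_pos).symm⟩
  rw [hn, Nat.add_sub_cancel, pow_succ]
  field_simp

end hens

end Groth.Agent.Etbc.H227.DivDvr
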