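import Groth.Agent.Etbc.H227.DivDvr
import Mathlib.LinearAlgebra.Dimension.Finite

/-! Finiteness of the valuation ring of a division algebra and triviality of the division algebra. -/

set_option autoImplicit false
set_option linter.style.haveILetI false
set_option linter.unusedSectionVars false
universe u

namespace Groth.Agent.Etbc.H227.DivFin

open IsLocalRing
open Groth.Agent.Sga4h Groth.Agent.Etbc.H227.DvrComm Groth.Agent.Etbc.H227.DivAlg
open Groth.Agent.Etbc.H227.DivDvr

variable {R K D : Type u} [CommRing R] [IsDomain R] [IsDiscreteValuationRing R]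
  [Field K] [CharZero K] [Algebra R K] [IsFractionRing R K]
  [DivisionRing D] [Algebra K D] [FiniteDimensional K D]
  [Algebra R D] [IsScalarTower R K D] (hR : EtCoh.IsStrictlyHenselianLocalRing R)

/-- The trace form `y ↦ tr (x y)` against `b`. -/
noncomputable def trForm (b : D) : D →ₗ[K] K :=
  (LinearMap.trace K D) ∘ₗ (Algebra.lmul K D).toLinearMap ∘ₗ (LinearMap.mulRight K b)

theorem trForm_apply (b x : D) :
    trForm (K := K) b x = LinearMap.trace K D (LinearMap.mulLeft K (x * b)) := rfl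

theorem exists_basis : ∃ (ι : Type u) (_ : Fintype ι) (b : Module.Basis ι K D),
    ∀ i, IntN R K (b i) := by
  let b := Module.Free.chooseBasis K D
  choose s hs0 hs using fun i => exists_smul_mem (R := R) (K := K) (b i)
  have hu : ∀ i, IsUnit (algebraMap R K (s i)) := fun i => by
    rw [isUnit_iff_ne_zero, Ne, FaithfulSMul.algebraMap_eq_zero_iff]
    exact hs0 i
  refine ⟨_, inferInstance, b.isUnitSMul hu, fun i => ?_⟩
  rw [Module.Basis.isUnitSMul_apply, Algebra.smul_def, ← IsScalarTower.algebraMap_apply R K D]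
  exact hs i

theorem eq_zero_of_trForm {ι : Type u} [Fintype ι] (b : Module.Basis ι K D) (x : D)
    (h : ∀ i, trForm (K := K) (b i) x = 0) : x = 0 := by
  by_contra hx
  have h1 : ∀ y : D, trForm (K := K) y x = 0 := by
    intro y
    have h2 : (LinearMap.trace K D) ∘ₗ (Algebra.lmul K D).toLinearMap ∘ₗ (LinearMap.mulLeft K x) = 0 := by
      refine b.ext fun i => ?_
      exact h i
    exact LinearMap.congr_fun h2 y
  have h3 := h1 x⁻¹
  rw [trForm_apply, mul_inv_cancel₀ hx] at h3
  have h4 : LinearMap.mulLeft K (1 : D) = LinearMap.id := by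
    ext y
    simp
  rw [h4, LinearMap.trace_id] at h3
  have h5 : (Module.finrank K D : K) ≠ 0 := by
    exact_mod_cast (Module.finrank_pos (R := K) (M := D)).ne'
  exact h5 h3

theorem finite_OD : Module.Finite R (OD R K D hR) := by
  obtain ⟨ι, _, b, hb⟩ := exists_basis (R := R) (K := K) (D := D)
  have hinj : Function.Injective (Algebra.linearMap R K) := IsFractionRing.injective R K
  let g : ι → (OD R K D hR) →ₗ[R] K := fun i =>
    ((trForm (K := K) (b i)).restrictScalars R) ∘ₗ (OD R K D hR).toSubmodule.subtype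
  have hg : ∀ i x, g i x ∈ LinearMap.range (Algebra.linearMap R K) := by
    intro i x
    obtain ⟨c, hc⟩ := (IntN.mul (R := R) (K := K) (show IntN R K (x : D) from x.2) (hb i)).trace hR
    exact ⟨c, hc.symm⟩
  let f : (OD R K D hR) →ₗ[R] (ι → R) := LinearMap.pi fun i =>
    (LinearEquiv.ofInjective (Algebra.linearMap R K) hinj).symm.toLinearMap ∘ₗ
      (LinearMap.codRestrict _ (g i) (hg i))
  have hf : Function.Injective f := by
    rw [← LinearMap.ker_eq_bot, LinearMap.ker_eq_bot']
    intro x hx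
    apply Subtype.ext
    refine eq_zero_of_trForm b (x : D) fun i => ?_
    have h1 : (LinearEquiv.ofInjective (Algebra.linearMap R K) hinj).symm
      ((LinearMap.codRestrict _ (g i) (hg i)) x) = 0 := congrFun hx i
    rw [LinearEquiv.map_eq_zero_iff] at h1
    exact congrArg Subtype.val h1
  exact Module.Finite.of_injective f hf

/-- A uniformizer of the division algebra. -/
theorem exists_uniformizer : ∃ ϖ : D, ϖ ≠ 0 ∧ (∃ m ∈ maximalIdeal R, Algebra.norm K ϖ = algebraMap R K m) ∧
    ∀ y : D, (∃ m ∈ maximalIdeal R, Algebra.norm K y = algebraMap R K m) → IntN R K (y * ϖ⁻¹) := by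
  classical
  obtain ⟨π, hπ⟩ := IsDiscreteValuationRing.exists_irreducible R
  have hπm : π ∈ maximalIdeal R := hπ.not_isUnit
  let P : ℕ → Prop := fun k => 0 < k ∧ ∃ (y : D) (u : Rˣ), Algebra.norm K y = algebraMap R K (u * π ^ k)
  have hP : ∃ k, P k := ⟨Module.finrank K D, Module.finrank_pos, algebraMap R D π, 1, by
    rw [IsScalarTower.algebraMap_apply R K D, Algebra.norm_algebraMap]
    simp⟩
  obtain ⟨hk, ϖ, u, hw⟩ := Nat.find_spec hP
  have hπ0 : algebraMap R K π ≠ 0 := by
    rw [Ne, FaithfulSMul.algebraMap_eq_zero_iff]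
    exact hπ.ne_zero
  have hu0 : ∀ v : Rˣ, algebraMap R K (v : R) ≠ 0 := fun v => by
    rw [Ne, FaithfulSMul.algebraMap_eq_zero_iff]
    exact v.ne_zero
  have hw0 : ϖ ≠ 0 := by
    rintro rfl
    rw [Algebra.norm_zero, map_mul, map_pow] at hw
    exact mul_ne_zero (hu0 u) (pow_ne_zero _ hπ0) hw.symm
  refine ⟨ϖ, hw0, ⟨_, Ideal.mul_mem_left _ _ (Ideal.pow_mem_of_mem _ hπm _ hk), hw⟩, ?_⟩
  rintro y ⟨m, hm, hy⟩
  by_cases hy0 : y = 0
  · refine ⟨0, ?_⟩
    rw [hy0, zero_mul, Algebra.norm_zero, map_zero]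
  have hN0 : ∀ z : D, z ≠ 0 → Algebra.norm K z ≠ 0 := by
    intro z hz h0
    have : Algebra.norm K (z * z⁻¹) = 0 := by rw [map_mul, h0, zero_mul]
    rw [mul_inv_cancel₀ hz, map_one] at this
    exact one_ne_zero this
  have hm0 : m ≠ 0 := by
    rintro rfl
    rw [map_zero] at hy
    exact hN0 y hy0 hy
  obtain ⟨k', v, rfl⟩ := IsDiscreteValuationRing.eq_unit_mul_pow_irreducible hm0 hπ
  have hk' : 0 < k' := by
    rcases Nat.eq_zero_or_pos k' with rfl | h
    · rw [pow_zero, mul_one] at hm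
      exact absurd v.isUnit hm
    · exact h
  have hle : Nat.find hP ≤ k' := Nat.find_min' hP ⟨hk', y, v, hy⟩
  refine ⟨v * (u⁻¹ : Rˣ) * π ^ (k' - Nat.find hP), ?_⟩
  have h1 : Algebra.norm K (y * ϖ⁻¹) * Algebra.norm K ϖ = Algebra.norm K y := by
    rw [← map_mul, mul_assoc, inv_mul_cancel₀ hw0, mul_one]
  have h2 := hN0 ϖ hw0
  apply mul_right_cancel₀ h2
  rw [h1, hy, hw, ← map_mul]
  congr 1
  calc (v : R) * π ^ k' = v * (π ^ (k' - Nat.find hP) * π ^ Nat.find hP) * ((u⁻¹ : Rˣ) * u) := by
        rw [← pow_add, Nat.sub_add_cancel hle]; simp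
    _ = _ := by ring

include hR in
/-- The valuation ring is commutative. -/
theorem OD_le [IsAlgClosed (ResidueField R)] : ∃ ϖ : D,
    Subalgebra.toSubmodule (OD R K D hR) ≤ Subalgebra.toSubmodule (Algebra.adjoin R {ϖ}) := by
  obtain ⟨ϖ, hw0, ⟨m, hm, hwm⟩, hw⟩ := exists_uniformizer (R := R) (K := K) (D := D)
  refine ⟨ϖ, ?_⟩
  obtain ⟨π, hπ⟩ := IsDiscreteValuationRing.exists_irreducible R
  have hπm : π ∈ maximalIdeal R := hπ.not_isUnit
  have hπ0 : algebraMap R D π ≠ 0 := by
    rw [IsScalarTower.algebraMap_apply R K D, Ne, FaithfulSMul.algebraMap_eq_zero_iff,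
      FaithfulSMul.algebraMap_eq_zero_iff]
    exact hπ.ne_zero
  have hfin := finite_OD (K := K) (D := D) hR
  have hfg : (Subalgebra.toSubmodule (OD R K D hR)).FG := Module.Finite.iff_fg.1 hfin
  refine Submodule.le_of_le_smul_of_le_jacobson_bot (I := maximalIdeal R) hfg
    (IsLocalRing.maximalIdeal_le_jacobson _) ?_
  -- first: expansion to any order
  have key : ∀ (k : ℕ) (x : D), IntN R K x → ∃ s ∈ Algebra.adjoin R {ϖ}, ∃ z : D, IntN R K z ∧
      x = s + z * ϖ ^ k := by
    intro k
    induction k with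
    | zero => exact fun x hx => ⟨0, Subalgebra.zero_mem _, x, hx, by simp⟩
    | succ k ih =>
      intro x hx
      obtain ⟨s, hs, z, hz, rfl⟩ := ih x hx
      obtain ⟨c, m', hm', hc⟩ := hz.exists_sub hR
      refine ⟨s + algebraMap R D c * ϖ ^ k, Subalgebra.add_mem _ hs (Subalgebra.mul_mem _
        (Subalgebra.algebraMap_mem _ _) (Subalgebra.pow_mem _
          (Algebra.subset_adjoin (Set.mem_singleton _)) _)), (z - algebraMap R D c) * ϖ⁻¹,
          hw _ ⟨m', hm', hc⟩, ?_⟩
      rw [pow_succ', ← mul_assoc ((z - algebraMap R D c) * ϖ⁻¹), mul_assoc _ ϖ⁻¹ ϖ,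
        inv_mul_cancel₀ hw0, mul_one, sub_mul]
      abel
  intro x hx
  obtain ⟨s, hs, z, hz, rfl⟩ := key (Module.finrank K D) x hx
  refine Submodule.add_mem_sup hs ?_
  -- `ϖ ^ n` is divisible by `π`
  have h1 : IntN R K ((algebraMap R D π)⁻¹ * ϖ ^ Module.finrank K D) := by
    rw [hπ.maximalIdeal_eq, Ideal.mem_span_singleton] at hm
    obtain ⟨c, rfl⟩ := hm
    refine ⟨c ^ Module.finrank K D, ?_⟩
    have h2 : Algebra.norm K (algebraMap R D π) = (algebraMap R K π) ^ Module.finrank K D := by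
      rw [IsScalarTower.algebraMap_apply R K D, Algebra.norm_algebraMap]
    have h3 : Algebra.norm K (algebraMap R D π) * Algebra.norm K ((algebraMap R D π)⁻¹ *
      ϖ ^ Module.finrank K D) = Algebra.norm K (ϖ ^ Module.finrank K D) := by
        rw [← map_mul, ← mul_assoc, mul_inv_cancel₀ hπ0, one_mul]
    have h4 : (algebraMap R K π) ^ Module.finrank K D ≠ 0 := by
      apply pow_ne_zero
      rw [Ne, FaithfulSMul.algebraMap_eq_zero_iff]
      exact hπ.ne_zero
    rw [h2, map_pow (Algebra.norm K), hwm, map_mul (algebraMap R K), mul_pow] at h3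
    rw [map_pow]
    exact mul_left_cancel₀ h4 h3
  have h5 : z * ϖ ^ Module.finrank K D =
      π • (z * ((algebraMap R D π)⁻¹ * ϖ ^ Module.finrank K D)) := by
    rw [Algebra.smul_def, ← mul_assoc, Algebra.commutes π z, mul_assoc z,
      ← mul_assoc (algebraMap R D π), mul_inv_cancel₀ hπ0, one_mul]
  rw [h5]
  exact Submodule.smul_mem_smul hπm (IntN.mul hz h1)

include K hR in
theorem mul_comm_D [IsAlgClosed (ResidueField R)] (x y : D) : x * y = y * x := by
  obtain ⟨ϖ, hw⟩ := OD_le (K := K) (D := D) hR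
  have h0 : ∀ a ∈ Algebra.adjoin R {ϖ}, ∀ b ∈ Algebra.adjoin R {ϖ}, a * b = b * a := by
    intro a ha b hb
    refine Algebra.commute_of_mem_adjoin_of_forall_mem_commute hb ?_ 
    intro c hc
    rw [Set.mem_singleton_iff] at hc
    subst hc
    exact (Algebra.commute_of_mem_adjoin_of_forall_mem_commute ha (by
      intro c hc
      rw [Set.mem_singleton_iff] at hc
      subst hc
      exact Commute.refl _)).symm
  obtain ⟨s, hs0, hs⟩ := exists_smul_mem (R := R) (K := K) x
  obtain ⟨t, ht0, ht⟩ := exists_smul_mem (R := R) (K := K) y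
  have h1 := h0 _ (hw hs) _ (hw ht)
  have hne : ∀ a : R, a ≠ 0 → algebraMap R D a ≠ 0 := by
    intro a ha
    rw [IsScalarTower.algebraMap_apply R K D, Ne, FaithfulSMul.algebraMap_eq_zero_iff,
      FaithfulSMul.algebraMap_eq_zero_iff]
    exact ha
  have h2 : (algebraMap R D s * algebraMap R D t) * (x * y) =
      (algebraMap R D s * algebraMap R D t) * (y * x) := by
    calc (algebraMap R D s * algebraMap R D t) * (x * y)
        = (algebraMap R D s * x) * (algebraMap R D t * y) := by
          rw [mul_assoc, mul_assoc, ← mul_assoc _ x y, Algebra.commutes t x, mul_assoc]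
      _ = (algebraMap R D t * y) * (algebraMap R D s * x) := h1
      _ = _ := by
          rw [mul_assoc, ← mul_assoc y, ← Algebra.commutes s y, ← mul_assoc, ← mul_assoc,
            ← Algebra.commutes s (algebraMap R D t), ← mul_assoc]
  exact mul_left_cancel₀ (mul_ne_zero (hne s hs0) (hne t ht0)) h2

include hR in
theorem finrank_eq_one [IsAlgClosed (ResidueField R)] [Algebra.IsCentral K D] :
    Module.finrank K D = 1 := by
  rw [← Subalgebra.bot_eq_top_iff_finrank_eq_one, eq_comm, eq_bot_iff]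
  intro x _
  exact Algebra.IsCentral.out (K := K) (D := D) (Subalgebra.mem_center_iff.2 fun y =>
    mul_comm_D (K := K) hR y x)

end Groth.Agent.Etbc.H227.DivFin
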