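import Groth.Agent.Sga4h.TameExt
import Mathlib.RingTheory.Norm.Transitivity
import Mathlib.RingTheory.Localization.NormTrace
import Mathlib.FieldTheory.IsAlgClosed.Basic

/-! Norms and integrality for finite separable extensions of the fraction field of a strictly henselian
discrete valuation ring. -/

set_option autoImplicit false
universe u

namespace Groth.Agent.Etbc.H227.DvrComm

open IsLocalRing nonZeroDivisors
open Groth.Agent.Sga4h

variable (R K L : Type u) [CommRing R] [IsDomain R] [IsDiscreteValuationRing R]
  [Field K] [Algebra R K] [IsFractionRing R K]
  [Field L] [Algebra K L] [Algebra R L] [IsScalarTower R K L] [FiniteDimensional K L]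
  [Algebra.IsSeparable K L]

include K in
theorem torsionFree_L : Module.IsTorsionFree R L := .trans_faithfulSMul R K L

include K in
theorem module_free : Module.Free R (integralClosure R L) := by
  have := TameExt.module_finite R K L
  have := TameExt.faithfulSMul R K L
  have : Module.IsTorsionFree R L := torsionFree_L R K L
  have : Module.IsTorsionFree R (integralClosure R L) := IsIntegralClosure.isTorsionFree R L
  infer_instance

theorem norm_eq (b : integralClosure R L) :
    Algebra.norm K (b : L) = algebraMap R K (Algebra.norm R b) := by
  have := TameExt.module_finite R K L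
  have := module_free R K L
  have := IsIntegralClosure.isLocalization R K L (integralClosure R L)
  exact Algebra.norm_localization (R := R) (Rₘ := K) (S := integralClosure R L) (Sₘ := L) R⁰ b

include K in
theorem isUnit_of_norm (b : integralClosure R L) (h : IsUnit (Algebra.norm R b)) : IsUnit b := by
  have := TameExt.module_finite R K L
  have := module_free R K L
  rw [Algebra.norm_apply, ← LinearMap.isUnit_iff_isUnit_det] at h
  obtain ⟨c, hc⟩ := ((Module.End.isUnit_iff _).1 h).2 1
  exact IsUnit.of_mul_eq_one c hc

variable (hR : EtCoh.IsStrictlyHenselianLocalRing R)

include hR in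
/-- An element whose norm is integral is itself integral. -/
theorem isIntegral_of_norm (a : L) (c : R) (h : Algebra.norm K a = algebraMap R K c) :
    IsIntegral R a := by
  have := TameExt.isFractionRing R K L
  have := TameExt.isDiscreteValuationRing R K L hR
  by_contra hcon
  have ha : a ≠ 0 := by
    rintro rfl
    exact hcon isIntegral_zero
  rcases ValuationRing.isInteger_or_isInteger (integralClosure R L) a with ⟨b, hb⟩ | ⟨b, hb⟩
  · apply hcon
    rw [← hb]
    exact b.2
  · have hb' : (b : L) = a⁻¹ := hb
    have h1 : Algebra.norm K (b : L) * Algebra.norm K a = 1 := by
      rw [← map_mul, hb', inv_mul_cancel₀ ha, map_one]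
    rw [norm_eq R K L b, h, ← map_mul, ← map_one (algebraMap R K)] at h1
    have h2 := IsFractionRing.injective R K h1
    have h3 : IsUnit b := isUnit_of_norm R K L b (IsUnit.of_mul_eq_one c h2)
    obtain ⟨d, hd⟩ := h3.exists_right_inv
    apply hcon
    have : a = (d : L) := by
      have h4 : (b : L) * (d : L) = 1 := by
        have := congrArg (algebraMap (integralClosure R L) L) hd
        simpa using this
      rw [hb'] at h4
      field_simp at h4
      exact h4.symm
    rw [this]
    exact d.2

include K hR in
/-- If the residue field is algebraically closed, every integral element is congruent to an element of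
`R` modulo the maximal ideal, in the sense that the norm of the difference is in the maximal ideal. -/
theorem exists_sub_norm_mem [IsAlgClosed (ResidueField R)] (b : integralClosure R L) :
    ∃ c : R, Algebra.norm R (b - algebraMap R _ c) ∈ maximalIdeal R := by
  have := TameExt.module_finite R K L
  have := TameExt.isLocalRing R L hR
  have hfs := TameExt.faithfulSMul R K L
  have hfin : FiniteDimensional (ResidueField R) (ResidueField (integralClosure R L)) :=
    ResidueField.finite_of_module_finite
  obtain ⟨c0, hc0⟩ := (IsAlgClosed.algebraMap_bijective_of_isIntegral (k := ResidueField R)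
    (K := ResidueField (integralClosure R L))).2 (residue _ b)
  obtain ⟨c, rfl⟩ := residue_surjective c0
  refine ⟨c, ?_⟩
  have h1 : residue (integralClosure R L) (b - algebraMap R _ c) = 0 := by
    rw [map_sub, sub_eq_zero, ← hc0]
    rfl
  rw [residue_eq_zero_iff] at h1
  intro h2
  exact h1 (isUnit_of_norm R K L _ h2)

end Groth.Agent.Etbc.H227.DvrComm
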